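import Cfsg.Agent.Lib.HSRec.Glue.Local

/-!
The automorphisms of the centraliser of the two involutions that come from an exchanging element: each is the
prescribed one up to an inner one and the outer automorphism of the centraliser of the first involution.
-/

set_option autoImplicit false
set_option maxRecDepth 100000
set_option Elab.async false

namespace CfsgLib.HSRec.Glue

/-- The conjugation map of the normalising element number `k` on the first 64 local numbers. -/
def bMap (k i : ℕ) : ℕ := ((bPerm.getD k 0) >>> (8 * i)) % 256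

/-- The map on the first 64 local numbers of the exchange times the normalising element number `k`. -/
def bStep (β : ℕ → ℕ) (k i : ℕ) : ℕ := β (bMap k i)

/-- Iteration. -/
def iter (f : ℕ → ℕ) : ℕ → ℕ → ℕ
  | 0, i => i
  | n + 1, i => f (iter f n i)

/-- The first properties of the conjugation map of an exchanging element fixing the third generator. -/
structure LBase (β : ℕ → ℕ) : Prop where
  lt : ∀ i < 256, β i < 256
  mul : ∀ i < 256, ∀ j < 256, β (lMul i j) = lMul (β i) (β j)
  inj : ∀ i < 256, ∀ j < 256, β i = β j → i = j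
  zero : β 0 = 0
  one : β 1 = 2
  two : β 2 = 1
  four : β 4 = 4

/-- What is known of that map. -/
structure LAut (β : ℕ → ℕ) : Prop extends LBase β where
  word : ∀ k < 3, (∀ i < 8, iter (bStep β k) (bWords.getD k (0, 0)).2 i = i) →
    ∀ i < 64, iter (bStep β k) (bWords.getD k (0, 0)).2 i = i
  sq : ∃ c < 256, β c = c ∧ ∀ g ∈ lG, lMul (β (β g)) c = lMul c g
  cube : ∃ c < 256, β (hPerm.getD c 0) = c ∧
    ∀ g ∈ lG, lMul (β (hPerm.getD (β (hPerm.getD (β (hPerm.getD g 0)) 0)) 0)) c = lMul c g

/-- A product of the normalising element and the exchange fixing the elementary subgroup fixes its centraliser. -/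
def wordB (ys : List ℕ) : Bool :=
  (List.range 3).all fun k =>
    !((List.range 8).all fun i => Nat.beq (iter (bStep (fun j => lVal ys j 0) k) (bWords.getD k (0, 0)).2 i) i) ||
      [8, 16, 32].all fun i => Nat.beq (iter (bStep (fun j => lVal ys j 0) k) (bWords.getD k (0, 0)).2 i) i

/-- The conditions on the image of the last of an initial segment of the generators. -/
def extB (ys : List ℕ) : Bool :=
  ((List.range ys.length).all fun j =>
      Nat.beq (lMul (ys.getD (ys.length - 1) 0) (ys.getD j 0)) (lVal ys (lMul (2 ^ (ys.length - 1)) (2 ^ j)) 0)) &&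
    ((List.range (2 ^ (ys.length - 1))).all fun i => !Nat.beq (lVal ys i 0) (ys.getD (ys.length - 1) 0)) &&
    (!Nat.beq ys.length 6 || wordB ys)

/-- The possible images. -/
def surv : ℕ → List (List ℕ)
  | 0 => [[2, 1, 4]]
  | k + 1 => (surv k).flatMap fun ys =>
      ((List.range (if k < 3 then 64 else 256)).map fun y => ys ++ [y]).filter extB

/-- The square is a conjugation by a fixed element. -/
def sqB (ys : List ℕ) : Bool :=
  (List.range 256).any fun c => Nat.beq (lVal ys c 0) c &&
    lG.all fun g => Nat.beq (lMul (lVal ys (lVal ys g 0) 0) c) (lMul c g)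

/-- The cube of the product with the normalising involution is a conjugation by a fixed element. -/
def cubeB (ys : List ℕ) : Bool :=
  (List.range 256).any fun c => Nat.beq (lVal ys (hPerm.getD c 0) 0) c &&
    lG.all fun g => Nat.beq
      (lMul (lVal ys (hPerm.getD (lVal ys (hPerm.getD (lVal ys (hPerm.getD g 0) 0) 0) 0) 0) 0) c) (lMul c g)

/-- The prescribed map. -/
def psi (i : ℕ) : ℕ := lVal psiG i 0

/-- The identity or the outer automorphism, on local numbers. -/
def twL (e : Bool) (i : ℕ) : ℕ := if e then twT.getD i 0 else i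

/-- The map is the prescribed one, possibly twisted, up to an inner one. -/
def innB (e : Bool) (ys : List ℕ) : Bool :=
  (List.range 256).any fun d => lG.all fun g =>
    Nat.beq (lMul (lVal ys (twL e g) 0) d) (lMul d (twL e (psi g)))

/-- The subgroups of initial generators. -/
def spanB : Bool :=
  (List.range 9).all fun k => (List.range (2 ^ k)).all fun i =>
    Nat.beq (lVal (lG.take k) i 0) i && (List.range k).all fun j => Nat.blt (lMul i (2 ^ j)) (2 ^ k)

/-- The first 64 local numbers are those commuting with the elementary subgroup. -/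
def aB : Bool :=
  (List.range 256).all fun i => [1, 2, 4].all (fun g => Nat.beq (lMul i g) (lMul g i)) == Nat.blt i 64

/-- Ranges of the conjugation maps. -/
def permB : Bool :=
  (List.range 3).all (fun k => (List.range 64).all fun i => Nat.blt (bMap k i) 64) &&
    (List.range 256).all fun i => Nat.blt (hPerm.getD i 0) 256 && Nat.blt (twT.getD i 0) 256

theorem span_ok : spanB = true := by decide +kernel

theorem a_ok : aB = true := by decide +kernel

theorem perm_ok : permB = true := by decide +kernel

/-- The extensions of an initial segment by one image below a bound. -/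
def ext (b : ℕ) (ys : List ℕ) : List (List ℕ) := ((List.range b).map fun y => ys ++ [y]).filter extB

theorem surv_succ (k : ℕ) : surv (k + 1) = (surv k).flatMap (ext (if k < 3 then 64 else 256)) := rfl

/-- The possible images of seven generators. -/
def survFour : List (List ℕ) := [[2, 1, 4, 54, 20, 30, 192],
  [2, 1, 4, 54, 20, 30, 193],
  [2, 1, 4, 54, 20, 30, 194],
  [2, 1, 4, 54, 20, 30, 195],
  [2, 1, 4, 54, 20, 30, 200],
  [2, 1, 4, 54, 20, 30, 201],
  [2, 1, 4, 54, 20, 30, 202],
  [2, 1, 4, 54, 20, 30, 203],
  [2, 1, 4, 54, 20, 30, 240],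
  [2, 1, 4, 54, 20, 30, 241],
  [2, 1, 4, 54, 20, 30, 242],
  [2, 1, 4, 54, 20, 30, 243],
  [2, 1, 4, 54, 20, 30, 248],
  [2, 1, 4, 54, 20, 30, 249],
  [2, 1, 4, 54, 20, 30, 250],
  [2, 1, 4, 54, 20, 30, 251]]

theorem surv_three_a : ((surv 2).take 32).flatMap (ext 64) = [] := by decide +kernel

theorem surv_three_b : ((surv 2).drop 32).flatMap (ext 64) = [[2, 1, 4, 54, 20, 30]] := by decide +kernel

theorem surv_four : surv 4 = survFour := by
  have h3 : surv 3 = [[2, 1, 4, 54, 20, 30]] := by
    rw [surv_succ 2, if_pos (show (2 : ℕ) < 3 by decide), ← List.take_append_drop 32 (surv 2), List.flatMap_append,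
      surv_three_a, surv_three_b]
    rfl
  rw [surv_succ 3, h3]
  decide +kernel

set_option maxHeartbeats 0 in
theorem surv_five_a : ((survFour.take 8).flatMap (ext 256)).all
    (fun ys => !(sqB ys && cubeB ys) || innB false ys || innB true ys) = true := by decide +kernel

set_option maxHeartbeats 0 in
theorem surv_five_b : ((survFour.drop 8).flatMap (ext 256)).all
    (fun ys => !(sqB ys && cubeB ys) || innB false ys || innB true ys) = true := by decide +kernel

theorem surv_ok : ((surv 5).all fun ys => !(sqB ys && cubeB ys) || innB false ys || innB true ys) = true := by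
  rw [surv_succ 4, surv_four, if_neg (show ¬ (4 : ℕ) < 3 by decide), ← List.take_append_drop 8 survFour,
    List.flatMap_append, List.all_append, surv_five_a, surv_five_b]
  rfl

theorem span_spec {k i : ℕ} (hk : k < 9) (hi : i < 2 ^ k) :
    lVal (lG.take k) i 0 = i ∧ ∀ j < k, lMul i (2 ^ j) < 2 ^ k := by
  have h := span_ok
  simp only [spanB, List.all_eq_true, List.mem_range, Bool.and_eq_true, Nat.beq_eq, Nat.blt_eq] at h
  exact h k hk i hi

theorem bMap_lt {k i : ℕ} (hk : k < 3) (hi : i < 64) : bMap k i < 64 := by
  have h := perm_ok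
  simp only [permB, List.all_eq_true, List.mem_range, Bool.and_eq_true, Nat.blt_eq] at h
  exact h.1 k hk i hi

theorem hPerm_lt {i : ℕ} (hi : i < 256) : hPerm.getD i 0 < 256 := by
  have h := perm_ok
  simp only [permB, List.all_eq_true, List.mem_range, Bool.and_eq_true, Nat.blt_eq] at h
  exact (h.2 i hi).1

theorem twL_lt {e : Bool} {i : ℕ} (hi : i < 256) : twL e i < 256 := by
  have h := perm_ok
  simp only [permB, List.all_eq_true, List.mem_range, Bool.and_eq_true, Nat.blt_eq] at h
  cases e
  · exact hi
  · exact (h.2 i hi).2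

theorem psi_lt (i : ℕ) : psi i < 256 := lVal_lt _ _ 0 (by decide)

theorem LBase.lt64 {β : ℕ → ℕ} (h : LBase β) {i : ℕ} (hi : i < 64) : β i < 64 := by
  have hi' : i < 256 := by omega
  have a := a_ok
  simp only [aB, List.all_eq_true, List.mem_range, beq_iff_eq] at a
  have h1 := a i hi'
  have h2 := a (β i) (h.lt i hi')
  have hb : i.blt 64 = true := by rw [Nat.blt_eq]; exact hi
  rw [hb] at h1
  simp only [List.all_cons, List.all_nil, Bool.and_true, Bool.and_eq_true, Nat.beq_eq] at h1
  obtain ⟨e1, e2, e4⟩ := h1
  rw [← Nat.blt_eq, ← h2]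
  have k1 := congrArg β e1
  rw [h.mul i hi' 1 (by decide), h.mul 1 (by decide) i hi', h.one] at k1
  have k2 := congrArg β e2
  rw [h.mul i hi' 2 (by decide), h.mul 2 (by decide) i hi', h.two] at k2
  have k4 := congrArg β e4
  rw [h.mul i hi' 4 (by decide), h.mul 4 (by decide) i hi', h.four] at k4
  simp [List.all_cons, k1, k2, k4]

namespace LAut

variable {β : ℕ → ℕ}

theorem getD {n j : ℕ} (hn : n < 9) (hj : j < n) : ((lG.take n).map β).getD j 0 = β (2 ^ j) := by
  interval_cases n <;> interval_cases j <;> rfl

theorem length {n : ℕ} (hn : n < 9) : ((lG.take n).map β).length = n := by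
  simp [lG]; omega

variable (h : LAut β)
include h

theorem val {k i : ℕ} (hk : k < 9) (hi : i < 2 ^ k) : lVal ((lG.take k).map β) i 0 = β i := by
  conv_rhs => rw [← (span_spec hk hi).1]
  rw [lVal_map β h.mul _ (fun y hy => lG_lt (List.mem_of_mem_take hy)) i 0 (by decide), h.zero]

theorem word_val {k i n : ℕ} (hk : k < 3) (hi : i < 64) :
    iter (bStep (fun j => lVal ((lG.take 6).map β) j 0) k) n i = iter (bStep β k) n i ∧ iter (bStep β k) n i < 64 := by
  induction n with
  | zero => exact ⟨rfl, hi⟩
  | succ n ih =>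
    obtain ⟨e, hlt⟩ := ih
    refine ⟨?_, h.lt64 (bMap_lt hk hlt)⟩
    simp only [iter, e]
    exact h.val (by decide) (by have := bMap_lt hk hlt; norm_num; exact this)

theorem extB_ok {n : ℕ} (hn : n < 9) (h3 : 3 < n) : extB ((lG.take n).map β) = true := by
  simp only [extB, length hn, Bool.and_eq_true, List.all_eq_true, List.mem_range, Nat.beq_eq, Bool.or_eq_true,
    Bool.not_eq_true']
  have hp : 2 ^ (n - 1) < 2 ^ n := Nat.pow_lt_pow_right (by decide) (by omega)
  have hp8 : ∀ j < n, 2 ^ j < 256 := fun j hj => by
    calc 2 ^ j < 2 ^ 8 := Nat.pow_lt_pow_right (by decide) (by omega)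
      _ = 256 := by norm_num
  refine ⟨⟨fun j hj => ?_, fun i hi => ?_⟩, ?_⟩
  · rw [h.val hn ((span_spec hn hp).2 j hj), getD hn hj, getD hn (by omega),
      h.mul _ (hp8 _ (by omega)) _ (hp8 j hj)]
  · rw [h.val hn (by omega), getD hn (by omega)]
    cases hb : Nat.beq (β i) (β (2 ^ (n - 1)))
    · rfl
    · have := h.inj i (lt_trans hi (hp8 _ (by omega))) _ (hp8 _ (by omega)) (Nat.eq_of_beq_eq_true hb)
      omega
  · by_cases h6 : n = 6
    · subst h6
      right
      simp only [wordB, List.all_eq_true, List.mem_range, Bool.or_eq_true, Bool.not_eq_true', Nat.beq_eq]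
      intro k hk
      by_cases hV : ∀ i < 8, iter (bStep β k) (bWords.getD k (0, 0)).2 i = i
      · refine Or.inr fun i hi => ?_
        simp only [List.mem_cons, List.not_mem_nil, or_false] at hi
        have h64 : i < 64 := by omega
        rw [(h.word_val hk h64).1]
        exact h.word k hk hV i h64
      · left
        rw [List.all_eq_false]
        push Not at hV
        obtain ⟨i, hi, hne⟩ := hV
        refine ⟨i, List.mem_range.2 hi, ?_⟩
        rw [(h.word_val hk (by omega)).1, Nat.beq_eq]
        exact hne
    · left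
      cases hb : Nat.beq n 6
      · rfl
      · exact absurd (Nat.eq_of_beq_eq_true hb) h6

theorem mem_surv {k : ℕ} (hk : k < 6) : (lG.take (k + 3)).map β ∈ surv k := by
  induction k with
  | zero => simp [surv, lG, h.one, h.two, h.four]
  | succ k ih =>
    have hk5 : k < 5 := by omega
    simp only [surv, List.mem_flatMap, List.mem_filter, List.mem_map, List.mem_range]
    refine ⟨_, ih (by omega), ⟨β (2 ^ (k + 3)), ?_, ?_⟩, h.extB_ok (n := k + 1 + 3) (by omega) (by omega)⟩
    · split
      · exact h.lt64 (by interval_cases k <;> norm_num)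
      · exact h.lt _ (by interval_cases k <;> norm_num)
    · interval_cases k <;> rfl

/-- The classification. -/
theorem twist : ∃ e : Bool, ∃ d < 256, ∀ g ∈ lG, lMul (β (twL e g)) d = lMul d (twL e (psi g)) := by
  have hs := h.mem_surv (k := 5) (by decide)
  have hall := surv_ok
  simp only [List.all_eq_true] at hall
  have h8 : ∀ i < 256, lVal ((lG.take 8).map β) i 0 = β i := fun i hi => h.val (by decide) (by norm_num; exact hi)
  have hb := hall _ hs
  simp only [show 5 + 3 = 8 from rfl, Bool.or_eq_true, Bool.not_eq_true', Bool.and_eq_false_imp] at hb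
  have hsq : sqB ((lG.take 8).map β) = true := by
    obtain ⟨c, hc, hfix, hg⟩ := h.sq
    simp only [sqB, List.any_eq_true, List.mem_range, Bool.and_eq_true, Nat.beq_eq, List.all_eq_true]
    exact ⟨c, hc, by rw [h8 c hc, hfix], fun g hgm => by rw [h8 g (lG_lt hgm), h8 _ (h.lt g (lG_lt hgm)), hg g hgm]⟩
  have hcu : cubeB ((lG.take 8).map β) = true := by
    obtain ⟨c, hc, hfix, hg⟩ := h.cube
    simp only [cubeB, List.any_eq_true, List.mem_range, Bool.and_eq_true, Nat.beq_eq, List.all_eq_true]
    refine ⟨c, hc, by rw [h8 _ (hPerm_lt hc), hfix], fun g hgm => ?_⟩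
    have l1 := hPerm_lt (lG_lt hgm)
    have l2 := hPerm_lt (h.lt _ l1)
    rw [h8 _ l1, h8 _ l2, h8 _ (hPerm_lt (h.lt _ l2)), hg g hgm]
  have key : ∀ e, innB e ((lG.take 8).map β) = true →
      ∃ d < 256, ∀ g ∈ lG, lMul (β (twL e g)) d = lMul d (twL e (psi g)) := by
    intro e he
    simp only [innB, List.any_eq_true, List.mem_range, Nat.beq_eq, List.all_eq_true] at he
    obtain ⟨d, hd, hdg⟩ := he
    exact ⟨d, hd, fun g hg => by rw [← h8 _ (twL_lt (lG_lt hg))]; exact hdg g hg⟩
  rcases hb with (hn | h1) | h2
  · rw [hn hsq] at hcu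
    exact Bool.noConfusion hcu
  · exact ⟨false, key false h1⟩
  · exact ⟨true, key true h2⟩

end LAut

end CfsgLib.HSRec.Glue
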