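import Cfsg.Agent.Lib.HSRec.Glue.Local
import Cfsg.Agent.Lib.HSRec.Glue.Table

/-!
The outer automorphism of the centraliser, on codes: odd codes are multiplied by an element of order four of the
centre of the normal subgroup of order 64.
-/

set_option autoImplicit false
set_option maxRecDepth 100000

namespace CfsgLib.HSRec.Glue

/-- The parity of a code: that of its permutation of five letters. -/
def podd (c : ℕ) : Bool := Nat.beq (parT.getD (c / 64) 0) 1

/-- The twist of the codes. -/
def tw (e : Bool) (c : ℕ) : ℕ := if e && podd c then hMul 48 c else c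

/-- Its inverse. -/
def twInv (e : Bool) (c : ℕ) : ℕ := if e && podd c then hMul iC c else c

/-- The facts on single codes. -/
def twB : Bool :=
  (List.range 7680).all fun c => Nat.beq (hMul c 48) (hMul (if podd c then iC else 48) c) &&
    Nat.beq (twInv true (tw true c)) c && Nat.beq (tw true (twInv true c)) c &&
      (Nat.ble 64 c || Nat.beq (tw true c) c)

/-- The parity is a homomorphism. -/
def parB : Bool :=
  (List.range 120).all fun k => (List.range 120).all fun l =>
    podd (hGet cocT 13 k l) == (podd (64 * k) != podd (64 * l))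

/-- The twist on local numbers, and the constants. -/
def twLB : Bool :=
  Nat.beq (hMul 48 iC) 0 && Nat.beq (hMul iC 48) 0 &&
    (List.range 256).all fun i => Nat.beq (lc (twL true i)) (tw true (lc i))

theorem tw_ok : twB = true := by decide +kernel

theorem par_ok : parB = true := by decide +kernel

theorem twL_ok : twLB = true := by decide +kernel

theorem tw_spec {c : ℕ} (hc : c < 7680) : hMul c 48 = hMul (if podd c then iC else 48) c ∧
    twInv true (tw true c) = c ∧ tw true (twInv true c) = c ∧ (c < 64 → tw true c = c) := by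
  have h := tw_ok
  simp only [twB, List.all_eq_true, List.mem_range, Bool.and_eq_true, Nat.beq_eq, Bool.or_eq_true,
    Nat.ble_eq] at h
  obtain ⟨⟨⟨h1, h2⟩, h3⟩, h4⟩ := h c hc
  exact ⟨h1, h2, h3, fun hlt => h4.resolve_left (by omega)⟩

theorem lc_twL (e : Bool) {i : ℕ} (hi : i < 256) : lc (twL e i) = tw e (lc i) := by
  cases e
  · rfl
  have h := twL_ok
  simp only [twLB, List.all_eq_true, List.mem_range, Bool.and_eq_true, Nat.beq_eq] at h
  exact h.2 i hi

theorem hQ_lt (r r' : ℕ) : hQ r r' < 64 := by
  unfold hQ
  have h1 : (r % 16) ^^^ (r' % 16) < 2 ^ 4 :=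
    Nat.xor_lt_two_pow (Nat.mod_lt _ (by norm_num)) (Nat.mod_lt _ (by norm_num))
  norm_num at h1
  omega

theorem podd_mul {c d : ℕ} (hc : c < 7680) (hd : d < 7680) : podd (hMul c d) = (podd c != podd d) := by
  have h := par_ok
  simp only [parB, List.all_eq_true, List.mem_range, beq_iff_eq] at h
  have h1 := h (c / 64) (by omega) (d / 64) (by omega)
  have e1 : ∀ x : ℕ, podd (64 * (x / 64)) = podd x := fun x => by
    unfold podd
    rw [Nat.mul_div_cancel_left _ (by decide : 0 < 64)]
  rw [e1, e1] at h1
  rw [← h1]
  unfold podd hMul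
  simp only
  congr 2
  have := hQ_lt (hQ (c % 64) (hGet actT 6 (c / 64) (d % 64))) (hGet cocT 13 (c / 64) (d / 64) % 64)
  omega

variable {G : Type*} [Group G] {t : G} {el : ℕ → G} (C : Code t el)
include C

theorem tw_lt (e : Bool) {c : ℕ} (hc : c < 7680) : tw e c < 7680 := by
  unfold tw
  split
  · exact (C.mul 48 c (by decide) hc).1
  · exact hc

theorem twInv_lt (e : Bool) {c : ℕ} (hc : c < 7680) : twInv e c < 7680 := by
  unfold twInv
  split
  · exact (C.mul iC c (by decide) hc).1
  · exact hc

/-- The twisted codes code the centraliser as well. -/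
theorem code_tw (e : Bool) : Code t (fun c => el (tw e c)) := by
  cases e
  · exact C
  set z := el 48 with hz
  have hzi : z * el iC = 1 ∧ el iC * z = 1 := by
    have h := twL_ok
    simp only [twLB, Bool.and_eq_true, Nat.beq_eq] at h
    rw [hz, el_mul C (by decide) (by decide), el_mul C (by decide) (by decide), h.1.1, h.1.2, C.one]
    exact ⟨rfl, rfl⟩
  have val : ∀ c < 7680, el (tw true c) = (if podd c then z else 1) * el c := by
    intro c hc
    unfold tw
    cases podd c
    · simp
    · simp [hz, el_mul C (by decide : 48 < 7680) hc]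
  refine ⟨?_, fun c d hc hd => ⟨(C.mul c d hc hd).1, ?_⟩, fun c hc => C.mem _ (tw_lt C true hc), ?_, ?_, ?_⟩
  · simp only [(tw_spec (c := 0) (by decide)).2.2.2 (by decide), C.one]
  · simp only [val c hc, val d hd, val _ (C.mul c d hc hd).1, podd_mul hc hd, ← el_mul C hc hd]
    have hz2 : el c * z = (if podd c then el iC else z) * el c := by
      rw [hz, el_mul C hc (by decide), (tw_spec hc).1]
      cases podd c
      · exact (el_mul C (by decide) hc).symm
      · exact (el_mul C (by decide) hc).symm
    cases hp : podd c <;> cases podd d <;> simp only [hp, Bool.false_eq_true, if_false, if_true] at hz2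
    · show 1 * el c * (1 * el d) = 1 * (el c * el d)
      rw [one_mul, one_mul, one_mul]
    · show 1 * el c * (z * el d) = z * (el c * el d)
      rw [one_mul, ← mul_assoc, hz2, mul_assoc]
    · show z * el c * (1 * el d) = z * (el c * el d)
      rw [one_mul, mul_assoc]
    · show z * el c * (z * el d) = 1 * (el c * el d)
      rw [mul_assoc, ← mul_assoc (el c), hz2, mul_assoc (el iC), ← mul_assoc z, hzi.1]
  · intro c d hc hd e
    have := C.inj _ _ (tw_lt C true hc) (tw_lt C true hd) e
    rw [← (tw_spec hc).2.1, this, (tw_spec hd).2.1]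
  · intro g hg
    obtain ⟨c, hc, rfl⟩ := C.surj g hg
    exact ⟨twInv true c, twInv_lt C true hc, congrArg el (tw_spec hc).2.2.1⟩
  · simp only [(tw_spec (c := tC) (by decide)).2.2.2 (by decide), C.t_eq]

end CfsgLib.HSRec.Glue
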