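import Cfsg.Agent.Lib.HSRec.Glue.Table

/-!
The conjugation map of an element of the normaliser exchanging the two involutions and fixing the third generator.
-/

set_option autoImplicit false
set_option maxRecDepth 100000

namespace CfsgLib.HSRec.Glue

/-- Facts on the normalising elements and the first 64 local numbers. -/
def moveB : Bool :=
  ((List.range 3).all fun k => Nat.blt (bWords.getD k (0, 0)).1 7680 && (List.range 64).all fun i =>
      Nat.beq (hMul (bWords.getD k (0, 0)).1 (lc i)) (hMul (lc (bMap k i)) (bWords.getD k (0, 0)).1)) &&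
    ((List.range 256).all fun i => Nat.beq (hMul hC (lc i)) (hMul (lc (hPerm.getD i 0)) hC)) &&
    ((List.range 64).all fun i => (List.range 8).all fun j => Nat.beq (lMul i j) (lMul j i)) &&
    vSet.all (fun a => (List.range 8).any fun i => Nat.beq (lc i) a) &&
    dV.all fun p => Nat.blt p.2 7680 && Nat.beq (hMul p.2 sC) (hMul sC p.2) && Nat.beq (hMul p.2 p.1) (hMul vC p.2)

theorem move_ok : moveB = true := by decide +kernel

theorem bWord_spec {k : ℕ} (hk : k < 3) : (bWords.getD k (0, 0)).1 < 7680 ∧ ∀ i < 64,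
    hMul (bWords.getD k (0, 0)).1 (lc i) = hMul (lc (bMap k i)) (bWords.getD k (0, 0)).1 := by
  have h := move_ok
  simp only [moveB, Bool.and_eq_true, List.all_eq_true, List.mem_range, Nat.blt_eq, Nat.beq_eq] at h
  exact h.1.1.1.1 k hk

theorem hPerm_spec {i : ℕ} (hi : i < 256) : hMul hC (lc i) = hMul (lc (hPerm.getD i 0)) hC := by
  have h := move_ok
  simp only [moveB, Bool.and_eq_true, List.all_eq_true, List.mem_range, Nat.blt_eq, Nat.beq_eq] at h
  exact h.1.1.1.2 i hi

theorem eight_comm {i j : ℕ} (hi : i < 64) (hj : j < 8) : lMul i j = lMul j i := by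
  have h := move_ok
  simp only [moveB, Bool.and_eq_true, List.all_eq_true, List.mem_range, Nat.blt_eq, Nat.beq_eq] at h
  exact h.1.1.2 i hi j hj

theorem vSet_spec {a : ℕ} (ha : a ∈ vSet) : ∃ i < 8, lc i = a := by
  have h := move_ok
  simp only [moveB, Bool.and_eq_true, List.all_eq_true, List.any_eq_true, List.mem_range, Nat.blt_eq, Nat.beq_eq] at h
  exact h.1.2 a ha

theorem dV_spec {p : ℕ × ℕ} (hp : p ∈ dV) :
    p.2 < 7680 ∧ hMul p.2 sC = hMul sC p.2 ∧ hMul p.2 p.1 = hMul vC p.2 := by
  have h := move_ok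
  simp only [moveB, Bool.and_eq_true, List.all_eq_true, List.mem_range, Nat.blt_eq, Nat.beq_eq] at h
  obtain ⟨⟨h1, h2⟩, h3⟩ := h.2 p hp
  exact ⟨h1, h2, h3⟩

theorem dV_fst {a : ℕ} (ha : a = 4 ∨ a = 5 ∨ a = 36 ∨ a = 37) : ∃ d, (a, d) ∈ dV := by
  rcases ha with rfl | rfl | rfl | rfl <;> simp [dV]

variable {G : Type*} [Group G] {t : G} {el : ℕ → G} (C : Code t el)
include C

theorem el_hC {i : ℕ} (hi : i < 256) : el hC * el (lc i) = el (lc (hPerm.getD i 0)) * el hC := by
  rw [el_mul C (by decide) (lc_lt hi), el_mul C (lc_lt (hPerm_lt hi)) (by decide), hPerm_spec hi]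

variable {M : Subgroup G} (L : Local el M)
include L

/-- An element of the normaliser exchanging the two involutions and fixing the third generator. -/
theorem exists_swap : ∃ n : G, n * el sC = el tC * n ∧ n * el tC = el sC * n ∧ n * el vC = el vC * n := by
  obtain ⟨g, hgM, h1, h2⟩ := L.pairs tC sC (by decide) (by decide) (by decide) (by decide) (by decide)
  rw [mul_inv_eq_iff_eq_mul] at h1 h2
  have hgN : g ∈ Subgroup.normalizer (el '' {c | c ∈ vSet}) := L.norm ▸ hgM
  obtain ⟨a, ha, e⟩ := (Subgroup.mem_set_normalizer_iff.1 hgN (el vC)).1 ⟨vC, (by decide : vC ∈ vSet), rfl⟩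
  rw [eq_mul_inv_iff_mul_eq] at e
  have ha' : a < 7680 := by
    simp only [Set.mem_ofPred_eq, vSet, List.mem_cons, List.not_mem_nil, or_false] at ha
    omega
  have ne : ∀ {c : ℕ} {x : G}, c < 7680 → g * x = el a * g → x = el c → c ≠ vC → False := by
    intro c x hc hx hxc hne
    have : g * el c = g * el vC := by rw [← hxc, hx, e]
    exact hne (C.inj _ _ hc (by decide) (mul_left_cancel this))
  have e33 : el 33 = el sC * el tC := by rw [el_mul C (by decide) (by decide)]; rfl
  have ha4 : a = 4 ∨ a = 5 ∨ a = 36 ∨ a = 37 := by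
    simp only [Set.mem_ofPred_eq, vSet, List.mem_cons, List.not_mem_nil, or_false] at ha
    rcases ha with rfl | rfl | rfl | rfl | rfl | rfl | rfl | rfl
    · exact (ne (c := 0) (x := 1) (by decide) (by rw [C.one, mul_one, one_mul]) C.one.symm (by decide)).elim
    · exact (ne (c := tC) (x := el tC) (by decide) h1 rfl (by decide)).elim
    · exact Or.inl rfl
    · exact Or.inr (Or.inl rfl)
    · exact (ne (c := sC) (x := el sC) (by decide) h2 rfl (by decide)).elim
    · refine (ne (c := 33) (x := el 33) (by decide) ?_ rfl (by decide)).elim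
      rw [e33, ← mul_assoc, h2, mul_assoc, h1, ← mul_assoc]
      congr 1
      rw [el_mul C (by decide) (by decide), el_mul C (by decide) (by decide)]
      congr 1
    · exact Or.inr (Or.inr (Or.inl rfl))
    · exact Or.inr (Or.inr (Or.inr rfl))
  obtain ⟨d, hd⟩ := dV_fst ha4
  obtain ⟨d1, d2, d3⟩ := dV_spec hd
  dsimp only at d1 d2 d3
  have hs : el d * el sC = el sC * el d := (el_comm C d1 (by decide)).2 d2
  have ht : el d * el tC = el tC * el d := by
    rw [C.t_eq]; exact Subgroup.mem_centralizer_singleton_iff.1 (C.mem d d1)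
  have hv : el d * el a = el vC * el d := by
    rw [el_mul C d1 ha', el_mul C (by decide) d1, d3]
  refine ⟨el d * g, ?_, ?_, ?_⟩
  · rw [mul_assoc, h2, ← mul_assoc, ht, mul_assoc]
  · rw [mul_assoc, h1, ← mul_assoc, hs, mul_assoc]
  · rw [mul_assoc, ← e, ← mul_assoc, hv, mul_assoc]

/-- Its conjugation map satisfies all the conditions of the table. -/
theorem exists_aut : ∃ (n : G) (β : ℕ → ℕ), LAut β ∧ ∀ i < 256, n * el (lc i) = el (lc (β i)) * n := by
  obtain ⟨n, hs, ht, hv⟩ := exists_swap C L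
  rw [C.t_eq] at hs ht
  have hex : ∀ i < 256, ∃ j < 256, n * el (lc i) = el (lc j) * n := by
    intro i hi
    obtain ⟨c1, c2⟩ := lc_comm C hi
    have k1 : n * el (lc i) * n⁻¹ * t = t * (n * el (lc i) * n⁻¹) := by
      rw [show t = n * el sC * n⁻¹ from (mul_inv_eq_iff_eq_mul.2 hs).symm]
      simp only [mul_assoc, inv_mul_cancel_left]
      rw [← mul_assoc (el (lc i)), c2]
      simp only [mul_assoc]
    have k2 : n * el (lc i) * n⁻¹ * el sC = el sC * (n * el (lc i) * n⁻¹) := by
      rw [show el sC = n * t * n⁻¹ from (mul_inv_eq_iff_eq_mul.2 ht).symm]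
      simp only [mul_assoc, inv_mul_cancel_left]
      rw [← mul_assoc (el (lc i)), c1]
      simp only [mul_assoc]
    obtain ⟨j, hj, e⟩ := exists_lc C k1 k2
    exact ⟨j, hj, by rw [e]; group⟩
  choose! β hβ eβ using hex
  have hone : β 1 = 2 := lc_el_inj C (hβ 1 (by decide)) (by decide) (mul_right_cancel (b := n) (by
    rw [← eβ 1 (by decide), el_two C, lc_small.2.1, hs]))
  have htwo : β 2 = 1 := lc_el_inj C (hβ 2 (by decide)) (by decide) (mul_right_cancel (b := n) (by
    rw [← eβ 2 (by decide), el_two C, lc_small.2.1, ht]))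
  have hfour : β 4 = 4 := lc_el_inj C (hβ 4 (by decide)) (by decide) (mul_right_cancel (b := n) (by
    rw [← eβ 4 (by decide), lc_small.2.2.2.2.1, hv]))
  have hmul : ∀ i < 256, ∀ j < 256, β (lMul i j) = lMul (β i) (β j) := fun i hi j hj =>
    lc_el_inj C (hβ _ (lMul_lt _ _)) (lMul_lt _ _) (mul_right_cancel (b := n) (by
      rw [← eβ _ (lMul_lt _ _), ← lc_mul C hi hj, ← mul_assoc, eβ i hi, mul_assoc, eβ j hj, ← mul_assoc,
        lc_mul C (hβ i hi) (hβ j hj)]))
  have hzero : β 0 = 0 := lc_el_inj C (hβ 0 (by decide)) (by decide) (mul_right_cancel (b := n) (by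
    rw [← eβ 0 (by decide), el_zero C, mul_one, one_mul]))
  have hinj : ∀ i < 256, ∀ j < 256, β i = β j → i = j := fun i hi j hj e =>
    lc_el_inj C hi hj (mul_left_cancel (a := n) (by rw [eβ i hi, eβ j hj, e]))
  have B : LBase β := ⟨hβ, hmul, hinj, hzero, hone, htwo, hfour⟩
  refine ⟨n, β, { B with word := ?_, sq := ?_, cube := ?_ }, eβ⟩
  · intro k hk hV i hi
    obtain ⟨hb, hbc⟩ := bWord_spec hk
    generalize hb' : (bWords.getD k (0, 0)).1 = b at hb hbc
    generalize hm' : (bWords.getD k (0, 0)).2 = m at hV ⊢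
    have step : ∀ j < 64, n * el b * el (lc j) = el (lc (bStep β k j)) * (n * el b) ∧ bStep β k j < 64 := by
      intro j hj
      have hj' : bMap k j < 64 := bMap_lt hk hj
      refine ⟨?_, B.lt64 hj'⟩
      rw [mul_assoc, el_mul C hb (lc_lt (by omega)), hbc j hj, ← el_mul C (lc_lt (by omega)) hb, ← mul_assoc,
        eβ _ (by omega), mul_assoc]
      rfl
    have pow : ∀ (r : ℕ) (j : ℕ), j < 64 →
        (n * el b) ^ r * el (lc j) = el (lc (iter (bStep β k) r j)) * (n * el b) ^ r ∧ iter (bStep β k) r j < 64 := by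
      intro r
      induction r with
      | zero => exact fun j hj => ⟨by simp [iter], hj⟩
      | succ r ih =>
        intro j hj
        obtain ⟨e, hlt⟩ := ih j hj
        refine ⟨?_, (step _ hlt).2⟩
        rw [pow_succ', mul_assoc, e, ← mul_assoc, (step _ hlt).1, mul_assoc]
        rfl
    have key := L.comm ((n * el b) ^ m) (el (lc i)) (fun a ha => ?_) (fun a ha => ?_)
    · obtain ⟨e, hlt⟩ := pow m i hi
      exact lc_el_inj C (by omega) (by omega) (mul_right_cancel (e.symm.trans key.eq))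
    · obtain ⟨j, hj, rfl⟩ := vSet_spec ha
      obtain ⟨e, -⟩ := pow m j (by omega)
      rw [hV j hj] at e
      exact e
    · obtain ⟨j, hj, rfl⟩ := vSet_spec ha
      show el (lc i) * el (lc j) = el (lc j) * el (lc i)
      rw [lc_mul C (by omega) (by omega), lc_mul C (by omega) (by omega), eight_comm hi hj]
  · have k1 : n * n * t = t * (n * n) := by rw [mul_assoc, ht, ← mul_assoc, hs, mul_assoc]
    have k2 : n * n * el sC = el sC * (n * n) := by rw [mul_assoc, hs, ← mul_assoc, ht, mul_assoc]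
    obtain ⟨c, hc, e⟩ := exists_lc C k1 k2
    refine ⟨c, hc, lc_el_inj C (hβ c hc) hc (mul_right_cancel (b := n) ?_), fun g hg => ?_⟩
    · rw [← eβ c hc, e, mul_assoc]
    have hg' := lG_lt hg
    refine lc_el_inj C (lMul_lt _ _) (lMul_lt _ _) ?_
    rw [← lc_mul C (hβ _ (hβ g hg')) hc, ← lc_mul C hc hg', e, ← mul_assoc, ← eβ _ (hβ g hg'), mul_assoc,
      ← eβ g hg', ← mul_assoc]
  · have step : ∀ j < 256, n * el hC * el (lc j) = el (lc (β (hPerm.getD j 0))) * (n * el hC) ∧
        β (hPerm.getD j 0) < 256 := fun j hj => ⟨by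
      rw [mul_assoc, el_hC C hj, ← mul_assoc, eβ _ (hPerm_lt hj), mul_assoc], hβ _ (hPerm_lt hj)⟩
    generalize hg0 : n * el hC = g at step
    have cube : ∀ j < 256, g * g * g * el (lc j) =
        el (lc (β (hPerm.getD (β (hPerm.getD (β (hPerm.getD j 0)) 0)) 0))) * (g * g * g) := by
      intro j hj
      obtain ⟨e1, l1⟩ := step j hj
      obtain ⟨e2, l2⟩ := step _ l1
      obtain ⟨e3, -⟩ := step _ l2
      rw [mul_assoc, e1, ← mul_assoc, mul_assoc g g, e2, ← mul_assoc, e3]
      simp only [mul_assoc]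
    obtain ⟨q1, q2, q3⟩ : hPerm.getD 1 0 = 3 ∧ hPerm.getD 2 0 = 2 ∧ hPerm.getD 3 0 = 1 := by decide +kernel
    have h3 : β 3 = 3 := by
      rw [show 3 = lMul 1 2 from by decide +kernel, hmul 1 (by decide) 2 (by decide), hone, htwo]
      decide +kernel
    have f1 : g * g * g * el sC = el sC * (g * g * g) := by
      have := cube 1 (by decide)
      rwa [q1, h3, q3, hone, q2, htwo, lc_small.2.1] at this
    have f2 : g * g * g * t = t * (g * g * g) := by
      have := cube 2 (by decide)
      rwa [q2, htwo, q1, h3, q3, hone, el_two C] at this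
    obtain ⟨c, hc, e⟩ := exists_lc C f2 f1
    obtain ⟨e1, l1⟩ := step c hc
    refine ⟨c, hc, lc_el_inj C l1 hc (mul_right_cancel (b := g) ?_), fun x hx => ?_⟩
    · rw [← e1, e, mul_assoc, mul_assoc, mul_assoc]
    refine lc_el_inj C (lMul_lt _ _) (lMul_lt _ _) ?_
    rw [← lc_mul C (hβ _ (hPerm_lt (hβ _ (hPerm_lt (hβ _ (hPerm_lt (lG_lt hx))))))) hc, ← lc_mul C hc (lG_lt hx), e,
      cube x (lG_lt hx)]

end CfsgLib.HSRec.Glue
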