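import Cfsg.Agent.Lib.HSRec.Basic
import Cfsg.Agent.Lib.HSRec.Glue.Data

/-!
The centraliser of the two involutions in local numbers.
-/

set_option autoImplicit false
set_option maxRecDepth 100000

namespace CfsgLib.HSRec.Glue

/-- The code of a local number. -/
def lc (i : ℕ) : ℕ := lCodes.getD i 0

/-- The product of local numbers. -/
def lMul (i j : ℕ) : ℕ := ((lTab.getD (i / 16) 0) >>> (8 * (256 * (i % 16) + j))) % 256

/-- The value on a local number of the map with the given images of the generators. -/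
def lVal : List ℕ → ℕ → ℕ → ℕ
  | [], _, a => a
  | y :: ys, i, a => lVal ys (i / 2) (if i % 2 = 1 then lMul a y else a)

/-- The generators. -/
def lG : List ℕ := [1, 2, 4, 8, 16, 32, 64, 128]

/-- The table agrees with the codes on right multiplication by generators. -/
def genB : Bool :=
  (List.range 256).all fun i => Nat.blt (lc i) 7680 && lG.all fun g =>
    Nat.beq (hMul (lc i) (lc g)) (lc (lMul i g))

/-- The table is that of an associative product. -/
def assocB : Bool :=
  (List.range 256).all fun j => Nat.beq j 0 || ([128, 64, 32, 16, 8, 4, 2, 1].any fun g =>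
    Nat.ble g j && Nat.beq (lMul (j - g) g) j &&
      (List.range 256).all fun i => Nat.beq (lMul (lMul i (j - g)) g) (lMul i j))

/-- Facts on single numbers. -/
def numB : Bool :=
  Nat.beq lCodes.length 256 && (List.range 256).all fun i =>
    Nat.beq (lMul i 0) i && Nat.beq (lCodes.idxOf (lc i)) i && Nat.beq (hMul (lc i) sC) (hMul sC (lc i)) &&
      Nat.beq (lVal lG i 0) i

/-- The local numbers are the codes commuting with the second involution. -/
def centB : Bool :=
  (List.range 7680).all fun c => !(Nat.beq (hMul c sC) (hMul sC c)) || lCodes.contains c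

theorem gen_ok : genB = true := by decide +kernel

theorem assoc_ok : assocB = true := by decide +kernel

theorem num_ok : numB = true := by decide +kernel

theorem cent_ok : centB = true := by decide +kernel

theorem lc_small : lc 0 = 0 ∧ lc 1 = sC ∧ lc 2 = tC ∧ lc 3 = 33 ∧ lc 4 = vC ∧ lc 5 = 5 ∧ lc 6 = 36 ∧ lc 7 = 37 := by
  decide +kernel

theorem lMul_lt (i j : ℕ) : lMul i j < 256 := Nat.mod_lt _ (by decide)

theorem lc_lt {i : ℕ} (hi : i < 256) : lc i < 7680 := by
  have h := gen_ok
  simp only [genB, List.all_eq_true, List.mem_range, Bool.and_eq_true, Nat.blt_eq] at h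
  exact (h i hi).1

theorem gen_spec {i g : ℕ} (hi : i < 256) (hg : g ∈ lG) : hMul (lc i) (lc g) = lc (lMul i g) := by
  have h := gen_ok
  simp only [genB, List.all_eq_true, List.mem_range, Bool.and_eq_true, Nat.beq_eq] at h
  exact (h i hi).2 g hg

theorem assoc_spec {j : ℕ} (hj : j < 256) (h0 : j ≠ 0) :
    ∃ g ∈ lG, g ≤ j ∧ 0 < g ∧ lMul (j - g) g = j ∧ ∀ i < 256, lMul (lMul i (j - g)) g = lMul i j := by
  have h := assoc_ok
  simp only [assocB, List.all_eq_true, List.mem_range, Bool.or_eq_true, List.any_eq_true, Bool.and_eq_true,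
    Nat.beq_eq, Nat.ble_eq] at h
  rcases h j hj with e | ⟨g, hg, ⟨h1, h2⟩, h3⟩
  · exact absurd e h0
  · refine ⟨g, ?_, h1, ?_, h2, h3⟩
    · simp only [lG, List.mem_cons, List.not_mem_nil, or_false] at hg ⊢
      omega
    · simp only [List.mem_cons, List.not_mem_nil, or_false] at hg
      omega

theorem num_spec {i : ℕ} (hi : i < 256) :
    lMul i 0 = i ∧ lCodes.idxOf (lc i) = i ∧ hMul (lc i) sC = hMul sC (lc i) ∧ lVal lG i 0 = i := by
  have h := num_ok
  simp only [numB, List.all_eq_true, List.mem_range, Bool.and_eq_true, Nat.beq_eq] at h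
  obtain ⟨⟨⟨h1, h2⟩, h3⟩, h4⟩ := h.2 i hi
  exact ⟨h1, h2, h3, h4⟩

theorem lc_inj {i j : ℕ} (hi : i < 256) (hj : j < 256) (e : lc i = lc j) : i = j := by
  rw [← (num_spec hi).2.1, e, (num_spec hj).2.1]

theorem lG_lt {g : ℕ} (hg : g ∈ lG) : g < 256 := by
  simp only [lG, List.mem_cons, List.not_mem_nil, or_false] at hg
  omega

theorem lVal_lt (ys : List ℕ) (i : ℕ) : ∀ a < 256, lVal ys i a < 256 := by
  induction ys generalizing i with
  | nil => exact fun a ha => ha
  | cons y ys ih =>
    intro a ha
    refine ih _ _ ?_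
    split
    · exact lMul_lt _ _
    · exact ha

/-- A map respecting products commutes with the evaluation. -/
theorem lVal_map (f : ℕ → ℕ) (hf : ∀ i < 256, ∀ j < 256, f (lMul i j) = lMul (f i) (f j)) (ys : List ℕ)
    (hys : ∀ y ∈ ys, y < 256) (i : ℕ) : ∀ a < 256, f (lVal ys i a) = lVal (ys.map f) i (f a) := by
  induction ys generalizing i with
  | nil => exact fun a _ => rfl
  | cons y ys ih =>
    intro a ha
    have hy : y < 256 := hys y List.mem_cons_self
    simp only [List.map_cons, lVal]
    rw [ih (fun z hz => hys z (List.mem_cons_of_mem _ hz))]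
    · split
      · rw [hf a ha y hy]
      · rfl
    · split
      · exact lMul_lt _ _
      · exact ha

variable {G : Type*} [Group G] {t : G} {el : ℕ → G} (C : Code t el)
include C

theorem el_mul {a b : ℕ} (ha : a < 7680) (hb : b < 7680) : el a * el b = el (hMul a b) := (C.mul a b ha hb).2

theorem el_comm {a b : ℕ} (ha : a < 7680) (hb : b < 7680) :
    el a * el b = el b * el a ↔ hMul a b = hMul b a := by
  rw [el_mul C ha hb, el_mul C hb ha]
  exact ⟨C.inj _ _ (C.mul a b ha hb).1 (C.mul b a hb ha).1, congrArg el⟩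

theorem el_zero : el (lc 0) = 1 := by rw [lc_small.1, C.one]

theorem el_two : el (lc 2) = t := by rw [lc_small.2.2.1, C.t_eq]

theorem lc_mul {i j : ℕ} (hi : i < 256) (hj : j < 256) : el (lc i) * el (lc j) = el (lc (lMul i j)) := by
  induction j using Nat.strong_induction_on with
  | _ j ih =>
    rcases Nat.eq_zero_or_pos j with rfl | h0
    · rw [el_zero C, mul_one, (num_spec hi).1]
    obtain ⟨g, hg, h1, h2, h3, h4⟩ := assoc_spec hj (Nat.pos_iff_ne_zero.1 h0)
    have hj' : j - g < 256 := by omega
    have e : el (lc j) = el (lc (j - g)) * el (lc g) := by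
      rw [el_mul C (lc_lt hj') (lc_lt (lG_lt hg)), gen_spec hj' hg, h3]
    rw [e, ← mul_assoc, ih (j - g) (by omega) hj', el_mul C (lc_lt (lMul_lt _ _)) (lc_lt (lG_lt hg)),
      gen_spec (lMul_lt _ _) hg, h4 i hi]

theorem lc_el_inj {i j : ℕ} (hi : i < 256) (hj : j < 256) (e : el (lc i) = el (lc j)) : i = j :=
  lc_inj hi hj (C.inj _ _ (lc_lt hi) (lc_lt hj) e)

theorem lc_comm {i : ℕ} (hi : i < 256) :
    el (lc i) * t = t * el (lc i) ∧ el (lc i) * el sC = el sC * el (lc i) := by
  refine ⟨Subgroup.mem_centralizer_singleton_iff.1 (C.mem _ (lc_lt hi)), ?_⟩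
  exact (el_comm C (lc_lt hi) (by decide)).2 (num_spec hi).2.2.1

theorem exists_lc {g : G} (h1 : g * t = t * g) (h2 : g * el sC = el sC * g) : ∃ i < 256, el (lc i) = g := by
  obtain ⟨c, hc, rfl⟩ := C.surj g (Subgroup.mem_centralizer_singleton_iff.2 h1)
  have h := cent_ok
  simp only [centB, List.all_eq_true, List.mem_range, Bool.or_eq_true, Bool.not_eq_true'] at h
  rcases h c hc with e | e
  · have : Nat.beq (hMul c sC) (hMul sC c) = true := Nat.beq_eq ▸ (el_comm C hc (by decide)).1 h2
    rw [this] at e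
    exact Bool.noConfusion e
  · have hmem : c ∈ lCodes := List.contains_iff_mem.1 e
    have hlt := List.idxOf_lt_length_of_mem hmem
    have hlen : lCodes.length = 256 := by
      have h3 := num_ok
      simp only [numB, Bool.and_eq_true, Nat.beq_eq] at h3
      exact h3.1
    refine ⟨lCodes.idxOf c, hlen ▸ hlt, ?_⟩
    rw [lc, List.getD_eq_getElem _ _ hlt, List.getElem_idxOf hlt]

/-- A conjugation law on generators extends to all local numbers. -/
theorem conj_lVal {x : G} {ys : List ℕ} {gs : List ℕ}
    (h : List.Forall₂ (fun g y => g < 256 ∧ y < 256 ∧ x * el (lc g) = el (lc y) * x) gs ys) (i : ℕ) :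
    ∀ a < 256, ∀ b < 256, x * el (lc a) = el (lc b) * x →
      x * el (lc (lVal gs i a)) = el (lc (lVal ys i b)) * x := by
  induction h generalizing i with
  | nil => exact fun a _ b _ e => e
  | @cons g y gs ys hgy _ ih =>
    intro a ha b hb e
    obtain ⟨hg, hy, egy⟩ := hgy
    simp only [lVal]
    split
    · refine ih _ _ (lMul_lt _ _) _ (lMul_lt _ _) ?_
      rw [← lc_mul C ha hg, ← mul_assoc, e, mul_assoc, egy, ← mul_assoc, lc_mul C hb hy]
    · exact ih _ _ ha _ hb e

end CfsgLib.HSRec.Glue
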